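import Groth.Agent.L09.LargeField.Algebra
import Groth.Agent.L23.LocP
import Groth.Agent.L23.Points
import Groth.Agent.L23.LocalDimEtale
import Groth.Agent.L23.SpaceTrdeg
import Groth.Prelude.Def_AlgSpDec

/-!
# Geometric points lift over large fields
-/

universe u

open CategoryTheory CategoryTheory.Limits AlgebraicGeometry Opposite AlgSp Cardinal

set_option autoImplicit false
set_option linter.style.haveILetI false
set_option backward.isDefEq.respectTransparency false
set_option backward.isDefEq.respectTransparency.types false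

noncomputable section

namespace Groth.L09.LargeField

open Groth.L23

theorem finite_residueFieldMap {A B : Scheme.{u}} (f : A ⟶ B) [LocallyQuasiFinite f] (x : A) :
    (f.residueFieldMap x).hom.Finite := by
  haveI : LocallyQuasiFinite (Spec.map (f.residueFieldMap x) ≫ B.fromSpecResidueField (f x)) := by
    rw [Scheme.Hom.SpecMap_residueFieldMap_fromSpecResidueField]
    infer_instance
  haveI : LocallyQuasiFinite (Spec.map (f.residueFieldMap x)) :=
    LocallyQuasiFinite.of_comp _ (B.fromSpecResidueField (f x))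
  haveI : IsFinite (Spec.map (f.residueFieldMap x)) := IsFinite.of_locallyQuasiFinite _
  exact (IsFinite.SpecMap_iff _).1 inferInstance

/-- Rational points of schemes etale over an algebraically closed field. -/
theorem exists_section {K : Type u} [Field K] [IsAlgClosed K] {P : Scheme.{u}}
    (q : P ⟶ Spec (CommRingCat.of K)) [Etale q] (π : P) :
    ∃ s : Spec (CommRingCat.of K) ⟶ P, s ≫ q = 𝟙 _ ∧ ∀ t, s t = π := by
  haveI := Groth.L23.lqf_of_etale q
  haveI : LocallyQuasiFinite (P.fromSpecResidueField π ≫ q) := inferInstance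
  obtain ⟨φ, hφ⟩ : ∃ φ : CommRingCat.of K ⟶ P.residueField π, Spec.map φ = P.fromSpecResidueField π ≫ q :=
    ⟨_, Spec.map_preimage _⟩
  haveI : LocallyQuasiFinite (Spec.map φ) := by rw [hφ]; infer_instance
  haveI : IsFinite (Spec.map φ) := IsFinite.of_locallyQuasiFinite _
  have hfin : φ.hom.Finite := (IsFinite.SpecMap_iff _).1 inferInstance
  letI := φ.hom.toAlgebra
  haveI : Module.Finite K (P.residueField π) := hfin
  haveI : Algebra.IsIntegral K (P.residueField π) := Algebra.IsIntegral.of_finite K _
  let e := RingEquiv.ofBijective (algebraMap K (P.residueField π)) IsAlgClosed.algebraMap_bijective_of_isIntegral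
  refine ⟨Spec.map (CommRingCat.ofHom e.symm.toRingHom) ≫ P.fromSpecResidueField π, ?_, fun t => ?_⟩
  · rw [Category.assoc, ← hφ, ← Spec.map_comp, ← Spec.map_id]
    congr 1
    ext r
    exact e.symm_apply_apply r
  · rw [Scheme.Hom.comp_apply]
    exact Scheme.fromSpecResidueField_apply π _

variable {S : Scheme.{u}} {X Y : Sp S}

/-- Residue fields of all etale charts are as small as those of one. -/
theorem mk_residueField_lt {U U' : Over S} {a : (yon S).obj U ⟶ X} (ha : RepWith @Etale a)
    (has : RepWith @Surjective a) {K : Type u} [Field K] [IsAlgClosed K]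
    (hk : ∀ u : ↥U.left, #(U.left.residueField u) < #K) {a' : (yon S).obj U' ⟶ X} (ha' : RepWith @Etale a')
    (z : ↥U'.left) : #(U'.left.residueField z) < #K := by
  obtain ⟨W, p, q, sq⟩ := exists_isPullback_of_representable ha.1 a'
  obtain ⟨u, hu⟩ := surjective_ofPt has (Points.ofPt a' z)
  obtain ⟨w, -, rfl⟩ := (ofPt_eq_ofPt_iff sq u z).1 hu
  haveI : Etale p.left := repWith_prop ha' sq.flip
  haveI := Groth.L23.lqf_of_etale p.left
  letI := (p.left.residueFieldMap w).hom.toAlgebra
  haveI : Module.Finite (U.left.residueField (p.left w)) (W.left.residueField w) := finite_residueFieldMap p.left w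
  exact (Cardinal.mk_le_of_injective (q.left.residueFieldMap w).hom.injective).trans_lt
    (mk_lt_of_finite (k := U.left.residueField (p.left w)) (hk _))

theorem exists_lift (hX : IsAlgSpace X) (hY : IsAlgSpace Y) (f : X ⟶ Y) {U : Over S} {a : (yon S).obj U ⟶ X}
    (ha : RepWith @Etale a) (has : RepWith @Surjective a) (ybar : FieldPt Y) [IsAlgClosed ybar.K]
    (hk : ∀ u : ↥U.left, #(U.left.residueField u) < #ybar.K) (x : Points X)
    (hx : Points.map f x = Points.mk ybar) :
    ∃ xbar : (yon S).obj ybar.pt ⟶ X, xbar ≫ f = ybar.toHom ∧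
      Points.ofPt xbar (IsLocalRing.closedPoint ybar.K) = x := by
  obtain ⟨U', V, a', b, h, ha', has', hb, -, w⟩ := exists_chart hX hY f
  obtain ⟨z, rfl⟩ := surjective_ofPt has' x
  have hv : Points.ofPt b (h.left z) = Points.mk ybar := by
    rw [← hx, Points.map_ofPt, w, ofPt_comp]
  obtain ⟨P, p, q, sq⟩ := exists_isPullback_of_representable hb.1 ybar.toHom
  obtain ⟨π, hπ, -⟩ := (ofPt_eq_ofPt_iff sq (h.left z) (IsLocalRing.closedPoint ybar.K)).1
    (hv.trans (Points.ofPt_toHom ybar _).symm)
  haveI : Etale q.left := repWith_prop hb sq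
  obtain ⟨s, hs, hst⟩ := exists_section q.left π
  let l : ybar.pt ⟶ V := Over.homMk (s ≫ p.left) (by
    show (s ≫ p.left) ≫ V.hom = ybar.str
    rw [Category.assoc, Over.w p, ← Over.w q, reassoc_of% hs]; rfl)
  have hl : (yon S).map l ≫ b = ybar.toHom := by
    let s' : ybar.pt ⟶ P := Over.homMk s (by
      show s ≫ P.hom = ybar.str
      rw [← Over.w q, reassoc_of% hs]; rfl)
    have e1 : l = s' ≫ p := Over.OverMorphism.ext rfl
    have e2 : s' ≫ q = 𝟙 _ := Over.OverMorphism.ext hs
    rw [e1, Functor.map_comp, Category.assoc, sq.w, ← Category.assoc, ← Functor.map_comp, e2,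
      CategoryTheory.Functor.map_id, Category.id_comp]
  obtain ⟨φ, hφ⟩ : ∃ φ : V.left.residueField (h.left z) ⟶ CommRingCat.of ybar.K,
      Spec.map φ ≫ V.left.fromSpecResidueField (h.left z) = l.left := by
    have hp : l.left (IsLocalRing.closedPoint ybar.K) = h.left z := by
      show p.left (s _) = _
      rw [hst, hπ]
    obtain ⟨⟨v, φ⟩, hvφ⟩ := (Scheme.SpecToEquivOfField ybar.K V.left).symm.surjective l.left
    change Spec.map φ ≫ V.left.fromSpecResidueField v = l.left at hvφ
    obtain rfl : v = h.left z := by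
      rw [← hp, ← hvφ, Scheme.Hom.comp_apply, Scheme.fromSpecResidueField_apply]
    exact ⟨φ, hvφ⟩
  obtain ⟨ψ, hψ⟩ := exists_extension (h.left.residueFieldMap z).hom φ.hom (mk_residueField_lt ha has hk ha' z)
  have hm : (Spec.map (CommRingCat.ofHom ψ) ≫ U'.left.fromSpecResidueField z) ≫ h.left = l.left := by
    rw [Category.assoc, ← Scheme.Hom.SpecMap_residueFieldMap_fromSpecResidueField, ← Category.assoc,
      ← Spec.map_comp, show h.left.residueFieldMap z ≫ CommRingCat.ofHom ψ = φ from CommRingCat.hom_ext hψ, hφ]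
  let m : ybar.pt ⟶ U' := Over.homMk (Spec.map (CommRingCat.ofHom ψ) ≫ U'.left.fromSpecResidueField z) (by
    show _ ≫ U'.hom = ybar.str
    rw [← Over.w h, ← Category.assoc, hm]
    exact Over.w l)
  have hmh : m ≫ h = l := Over.OverMorphism.ext hm
  refine ⟨(yon S).map m ≫ a', by rw [Category.assoc, w, ← Category.assoc, ← Functor.map_comp, hmh, hl], ?_⟩
  rw [ofPt_comp]
  congr 1
  show (Spec.map _ ≫ U'.left.fromSpecResidueField z) _ = z
  rw [Scheme.Hom.comp_apply, Scheme.fromSpecResidueField_apply]

end Groth.L09.LargeField
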