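import Mathlib.RingTheory.Jacobson.Ring
import Mathlib.FieldTheory.IsAlgClosed.Basic
import Mathlib.LinearAlgebra.FreeAlgebra
import Mathlib.RingTheory.Algebraic.LinearIndependent
import Mathlib.RingTheory.TensorProduct.Free
import Mathlib.RingTheory.TensorProduct.Nontrivial

/-!
# Embeddings of small extensions into large algebraically closed fields
-/

universe u

open Cardinal TensorProduct

set_option autoImplicit false
set_option linter.style.haveILetI false

namespace Groth.L09.LargeField

/-- A field generated over a large algebraically closed field by a small set is trivial over it. -/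
theorem surjective_algebraMap {K L : Type u} [Field K] [IsAlgClosed K] [Field L] [Algebra K L] (s : Set L)
    (hs : Algebra.adjoin K s = ⊤) (hc : #s < #K) : Function.Surjective (algebraMap K L) := by
  haveI : Algebra.IsIntegral K L := by
    rcases s.finite_or_infinite with h | h
    · haveI : Algebra.FiniteType K L := ⟨⟨h.toFinset, by rw [Set.Finite.coe_toFinset, hs]⟩⟩
      haveI : Module.Finite K L := finite_of_finite_type_of_isJacobsonRing K L
      exact Algebra.IsIntegral.of_finite K L
    · rw [← Algebra.isAlgebraic_iff_isIntegral]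
      refine ⟨fun x => ?_⟩
      by_contra hx
      have h1 := (Transcendental.linearIndependent_sub_inv (x := x) hx).cardinal_le_rank
      have h2 : Module.rank K (Algebra.adjoin K s) ≤ max #s ℵ₀ := Algebra.rank_adjoin_le s
      rw [hs] at h2
      have h3 : Module.rank K (⊤ : Subalgebra K L) = Module.rank K L := LinearEquiv.rank_eq Subalgebra.topEquiv.toLinearEquiv
      rw [h3, max_eq_left (Cardinal.aleph0_le_mk_iff.2 h.to_subtype)] at h2
      exact absurd hc (not_lt.2 (h1.trans h2))
  exact IsAlgClosed.algebraMap_bijective_of_isIntegral.2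

/-- Small extensions embed into large algebraically closed fields. -/
theorem exists_extension {k κ K : Type u} [Field k] [Field κ] [Field K] [IsAlgClosed K] (φ₁ : k →+* κ)
    (φ₂ : k →+* K) (hc : #κ < #K) : ∃ ψ : κ →+* K, ψ.comp φ₁ = φ₂ := by
  letI := φ₁.toAlgebra
  letI := φ₂.toAlgebra
  haveI : Nontrivial (K ⊗[k] κ) :=
    Algebra.TensorProduct.nontrivial_of_algebraMap_injective_of_isDomain k K κ
      (algebraMap k K).injective (algebraMap k κ).injective
  obtain ⟨m, hm⟩ := Ideal.exists_maximal (K ⊗[k] κ)
  letI := Ideal.Quotient.field m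
  let q : K ⊗[k] κ →ₐ[K] (K ⊗[k] κ ⧸ m) := Ideal.Quotient.mkₐ K m
  let s : Set (K ⊗[k] κ ⧸ m) := q '' Set.range (fun x : κ => (1 : K) ⊗ₜ[k] x)
  have hs : Algebra.adjoin K s = ⊤ := by
    refine eq_top_iff.2 fun y hy => ?_
    clear hy
    obtain ⟨t, rfl⟩ := Ideal.Quotient.mk_surjective y
    induction t using TensorProduct.induction_on with
    | zero => rw [map_zero]; exact zero_mem _
    | tmul a x =>
      have : a ⊗ₜ[k] x = algebraMap K (K ⊗[k] κ) a * ((1 : K) ⊗ₜ[k] x) := by
        rw [Algebra.TensorProduct.algebraMap_apply, Algebra.TensorProduct.tmul_mul_tmul, one_mul, mul_one]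
        rfl
      show q (a ⊗ₜ[k] x) ∈ _
      rw [this, map_mul, AlgHom.commutes]
      exact mul_mem (Subalgebra.algebraMap_mem _ _) (Algebra.subset_adjoin ⟨_, ⟨x, rfl⟩, rfl⟩)
    | add a b ha hb => rw [map_add]; exact add_mem ha hb
  have hcs : #s < #K := ((Cardinal.mk_image_le.trans Cardinal.mk_range_le).trans_lt hc)
  let e := RingEquiv.ofBijective (algebraMap K (K ⊗[k] κ ⧸ m))
    ⟨(algebraMap K (K ⊗[k] κ ⧸ m)).injective, surjective_algebraMap s hs hcs⟩
  let ι : κ →+* K ⊗[k] κ := (Algebra.TensorProduct.includeRight (R := k) (A := K) (B := κ)).toRingHom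
  refine ⟨e.symm.toRingHom.comp ((Ideal.Quotient.mk m).comp ι), ?_⟩
  ext r
  apply e.injective
  show e (e.symm _) = algebraMap K _ (φ₂ r)
  rw [RingEquiv.apply_symm_apply]
  show Ideal.Quotient.mk m ((1 : K) ⊗ₜ[k] algebraMap k κ r) = Ideal.Quotient.mk m (algebraMap k K r ⊗ₜ[k] (1 : κ))
  rw [Algebra.TensorProduct.tmul_one_eq_one_tmul]

/-- Finite extensions of small fields are small. -/
theorem mk_lt_of_finite {k L K : Type u} [Field k] [Field L] [Algebra k L] [Module.Finite k L]
    [Field K] [IsAlgClosed K] (hc : #k < #K) : #L < #K := by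
  let b := Module.finBasis k L
  rw [Cardinal.mk_congr b.equivFun.toEquiv, Cardinal.mk_arrow, Cardinal.lift_id'.{0, u}, Cardinal.mk_fin,
    Cardinal.lift_natCast, Cardinal.power_natCast]
  rcases lt_or_ge #k ℵ₀ with h | h
  · exact (Cardinal.power_lt_aleph0 h (Cardinal.natCast_lt_aleph0 (n := Module.finrank k L))).trans_le'
      (by rw [Cardinal.power_natCast]) |>.trans_le (Cardinal.infinite_iff.1 inferInstance)
  · exact (Cardinal.power_nat_le h).trans_lt hc

end Groth.L09.LargeField
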